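import Groth.Prelude.Def_Wider
import Mathlib.RingTheory.Artinian.Module
import Mathlib.RingTheory.Nakayama
import Mathlib.RingTheory.KrullDimension.Zero
import Mathlib.RingTheory.HopkinsLevitzki
import Mathlib.CategoryTheory.Linear.LinearFunctor
import Mathlib.CategoryTheory.Functor.EpiMono

/-! # Linear self-equivalences of finite length modules over a local ring -/

set_option autoImplicit false
set_option linter.style.haveILetI false
set_option backward.isDefEq.respectTransparency.types false
set_option backward.isDefEq.respectTransparency false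
universe u

open CategoryTheory IsLocalRing

namespace Groth.Agent.FinLenSelf6

variable {A : Type u} [CommRing A] [IsLocalRing A] [IsNoetherianRing A]

instance instArtinianQuotient (n : ℕ) : IsArtinianRing (A ⧸ maximalIdeal A ^ (n + 1)) := by
  rw [isArtinianRing_iff_isNoetherianRing_krullDimLE_zero]
  refine ⟨inferInstance, Ring.krullDimLE_zero_iff.2 fun p hp => ?_⟩
  haveI : (p.comap (Ideal.Quotient.mk _)).IsPrime := Ideal.IsPrime.comap _
  have h1 : maximalIdeal A ≤ p.comap (Ideal.Quotient.mk _) :=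
    Ideal.IsPrime.le_of_pow_le (n := n + 1) fun x hx => by
      rw [Ideal.mem_comap, Ideal.Quotient.eq_zero_iff_mem.2 hx]
      exact zero_mem _
  have h2 : p.comap (Ideal.Quotient.mk _) = maximalIdeal A :=
    le_antisymm (IsLocalRing.le_maximalIdeal (Ideal.IsPrime.ne_top ‹_›)) h1
  rw [← Ideal.map_comap_of_surjective _ Ideal.Quotient.mk_surjective p]
  have : (p.comap (Ideal.Quotient.mk (maximalIdeal A ^ (n + 1)))).IsMaximal := by
    rw [h2]; infer_instance
  exact (Ideal.map_eq_top_or_isMaximal_of_surjective _ Ideal.Quotient.mk_surjective this).resolve_left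
    (by rw [Ideal.map_comap_of_surjective _ Ideal.Quotient.mk_surjective p]; exact hp.ne_top)

instance (n : ℕ) : IsArtinian A (A ⧸ maximalIdeal A ^ (n + 1)) :=
  isArtinian_of_surjective_algebraMap (R := A ⧸ maximalIdeal A ^ (n + 1))
    (S := A) Ideal.Quotient.mk_surjective

/-- The truncated ring as an object of the category. -/
noncomputable def Q (n : ℕ) : Dual.FinLen A :=
  ⟨ModuleCat.of A (A ⧸ maximalIdeal A ^ (n + 1)), isFiniteLength_iff_isNoetherian_isArtinian.2
    ⟨inferInstance, inferInstance⟩⟩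

/-- The class of `1`. -/
def one (n : ℕ) : (Q (A := A) n).obj := (1 : A ⧸ maximalIdeal A ^ (n + 1))

instance (M : Dual.FinLen A) : IsNoetherian A M.obj := (isFiniteLength_iff_isNoetherian_isArtinian.1 M.property).1
instance (M : Dual.FinLen A) : IsArtinian A M.obj := (isFiniteLength_iff_isNoetherian_isArtinian.1 M.property).2

/-- A morphism from a linear map. -/
abbrev mkHom {M N : Dual.FinLen A} (f : M.obj →ₗ[A] N.obj) : M ⟶ N := ObjectProperty.homMk (ModuleCat.ofHom f)

theorem ext' {M N : Dual.FinLen A} {f g : M ⟶ N} (h : ∀ x, f.hom x = g.hom x) : f = g :=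
  ObjectProperty.hom_ext _ (ModuleCat.hom_ext (LinearMap.ext h))

/-- `m^(n+1)` kills `M`. -/
def Kills (n : ℕ) (M : Dual.FinLen A) : Prop := ∀ a ∈ maximalIdeal A ^ (n + 1), ∀ x : M.obj, a • x = 0

theorem Kills.mono {n n' : ℕ} {M : Dual.FinLen A} (h : Kills n M) (hn : n ≤ n') : Kills n' M :=
  fun a ha x => h a (Ideal.pow_le_pow_right (Nat.succ_le_succ hn) ha) x

theorem kills_Q (n : ℕ) : Kills n (Q (A := A) n) := fun a ha x => by
  obtain ⟨b, rfl⟩ := Ideal.Quotient.mk_surjective (show A ⧸ maximalIdeal A ^ (n + 1) from x)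
  show a • Ideal.Quotient.mk _ b = 0
  rw [Algebra.smul_def, Ideal.Quotient.algebraMap_eq, ← map_mul]
  exact Ideal.Quotient.eq_zero_iff_mem.2 (Ideal.mul_mem_right _ _ ha)

theorem exists_kills (M : Dual.FinLen A) : ∃ n, Kills n M := by
  let f : ℕ →o (Submodule A M.obj)ᵒᵈ :=
    ⟨fun n => OrderDual.toDual (maximalIdeal A ^ n • (⊤ : Submodule A M.obj)),
      fun m n h => Submodule.smul_mono_left (Ideal.pow_le_pow_right h)⟩
  obtain ⟨n, hn⟩ := IsArtinian.monotone_stabilizes f
  have hN : maximalIdeal A ^ n • (⊤ : Submodule A M.obj) = ⊥ := by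
    refine Submodule.eq_bot_of_le_smul_of_le_jacobson_bot (maximalIdeal A) _ (IsNoetherian.noetherian _) ?_
      (IsLocalRing.maximalIdeal_le_jacobson _)
    rw [← Submodule.mul_smul, ← pow_succ']
    exact (hn (n + 1) n.le_succ).ge
  refine ⟨n, fun a ha x => ?_⟩
  rw [← Submodule.mem_bot A, ← hN]
  exact Submodule.smul_mem_smul (Ideal.pow_le_pow_right n.le_succ ha) Submodule.mem_top

/-- The morphism `1 ↦ x`. -/
noncomputable def phi {n : ℕ} {M : Dual.FinLen A} (h : Kills n M) (x : M.obj) : Q n ⟶ M :=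
  mkHom (Submodule.liftQ (maximalIdeal A ^ (n + 1)) (LinearMap.toSpanSingleton A M.obj x) fun a ha => by
    rw [LinearMap.mem_ker, LinearMap.toSpanSingleton_apply]
    exact h a ha x)

theorem phi_one {n : ℕ} {M : Dual.FinLen A} (h : Kills n M) (x : M.obj) : (phi h x).hom (one n) = x :=
  one_smul A x

theorem eq_smul_one {n : ℕ} (x : (Q (A := A) n).obj) : ∃ a : A, x = a • one n := by
  obtain ⟨b, rfl⟩ := Ideal.Quotient.mk_surjective (show A ⧸ maximalIdeal A ^ (n + 1) from x)
  refine ⟨b, ?_⟩
  show _ = b • (1 : A ⧸ maximalIdeal A ^ (n + 1))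
  rw [Algebra.smul_def, mul_one, Ideal.Quotient.algebraMap_eq]

theorem Q_ext {n : ℕ} {M : Dual.FinLen A} {f g : Q n ⟶ M} (h : f.hom (one n) = g.hom (one n)) : f = g := by
  refine ext' fun x => ?_
  obtain ⟨a, rfl⟩ := eq_smul_one x
  show f.hom.hom (a • one n) = g.hom.hom (a • one n)
  rw [map_smul, map_smul]
  exact congrArg (a • ·) h

theorem one_notMem (n : ℕ) : one n ∉ maximalIdeal A • (⊤ : Submodule A (Q (A := A) n).obj) := by
  intro h
  have h1 : (1 : A ⧸ maximalIdeal A ^ (n + 1)) ∈ maximalIdeal A • (⊤ : Submodule A (A ⧸ maximalIdeal A ^ (n + 1))) := h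
  rw [Ideal.smul_top_eq_map, Submodule.restrictScalars_mem, Ideal.Quotient.algebraMap_eq,
    Ideal.mem_map_iff_of_surjective _ Ideal.Quotient.mk_surjective] at h1
  obtain ⟨a, ha, ha1⟩ := h1
  have := Ideal.Quotient.eq.1 (ha1.trans (map_one (Ideal.Quotient.mk _)).symm)
  refine (maximalIdeal.isMaximal A).ne_top ((Ideal.eq_top_iff_one _).2 ?_)
  simpa using sub_mem ha (Ideal.pow_le_self n.succ_ne_zero this)

theorem surjective_of_epi {M N : Dual.FinLen A} (f : M ⟶ N) [Epi f] : Function.Surjective f.hom := by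
  let C : Dual.FinLen A := ⟨ModuleCat.of A (N.obj ⧸ LinearMap.range f.hom.hom),
    isFiniteLength_iff_isNoetherian_isArtinian.2 ⟨inferInstance, inferInstance⟩⟩
  have h : (mkHom (N := C) (LinearMap.range f.hom.hom).mkQ) = mkHom 0 := by
    rw [← cancel_epi f]
    refine ext' fun x => ?_
    show (LinearMap.range f.hom.hom).mkQ (f.hom x) = 0
    exact (Submodule.Quotient.mk_eq_zero _).2 ⟨x, rfl⟩
  intro y
  exact (Submodule.Quotient.mk_eq_zero (LinearMap.range f.hom.hom)).1 congr(($h).hom y)

theorem epi_of_surjective {M N : Dual.FinLen A} (f : M ⟶ N) (hf : Function.Surjective f.hom) : Epi f :=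
  ⟨fun g h hgh => ext' fun y => by
    obtain ⟨x, rfl⟩ := hf y
    exact congr(($hgh).hom x)⟩

theorem hom_sum_apply {M N : Dual.FinLen A} {ι : Type*} (s : Finset ι) (f : ι → (M ⟶ N)) (x : M.obj) :
    (∑ i ∈ s, f i).hom x = ∑ i ∈ s, (f i).hom x := by
  classical
  induction s using Finset.induction with
  | empty => rw [Finset.sum_empty, Finset.sum_empty]; rfl
  | insert i s hi ih =>
    rw [Finset.sum_insert hi, Finset.sum_insert hi, ← ih]
    rfl

variable (F : Dual.FinLen A ≌ Dual.FinLen A) [F.functor.Linear A] [F.functor.Additive]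

theorem kills_obj {n : ℕ} {M : Dual.FinLen A} (h : Kills n M) : Kills n (F.functor.obj M) := fun a ha x => by
  have e : a • 𝟙 M = (0 : M ⟶ M) := ext' fun y => h a ha y
  have e' := congrArg F.functor.map e
  rw [Functor.map_smul, Functor.map_zero, CategoryTheory.Functor.map_id] at e'
  exact congr(($e').hom x)

theorem kills_of_obj {n : ℕ} {M : Dual.FinLen A} (h : Kills n (F.functor.obj M)) : Kills n M := fun a ha x => by
  have e : a • 𝟙 M = (0 : M ⟶ M) := F.functor.map_injective (by
    rw [Functor.map_smul, Functor.map_zero, CategoryTheory.Functor.map_id]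
    exact ext' fun y => h a ha y)
  exact congr(($e).hom x)

/-- Every element of `F M` is in the span of the images of the `F (phi x)`. -/
theorem top_le_iSup_range {n : ℕ} {M : Dual.FinLen A} (h : Kills n M) :
    (⊤ : Submodule A (F.functor.obj M).obj) ≤
      ⨆ x : M.obj, LinearMap.range (F.functor.map (phi h x)).hom.hom := by
  classical
  obtain ⟨r, π, hπ⟩ := Module.Finite.exists_fin' A M.obj
  let P : Dual.FinLen A := ⟨ModuleCat.of A (Fin r → A ⧸ maximalIdeal A ^ (n + 1)),
    isFiniteLength_iff_isNoetherian_isArtinian.2 ⟨inferInstance, inferInstance⟩⟩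
  let pr : ∀ i, P ⟶ Q n := fun i => mkHom (LinearMap.proj i)
  let p : P ⟶ M := ∑ i, pr i ≫ phi h (π (Pi.single i 1))
  have hp : Function.Surjective p.hom := by
    intro m
    obtain ⟨v, rfl⟩ := hπ m
    refine ⟨fun i => Ideal.Quotient.mk _ (v i), ?_⟩
    simp only [p, hom_sum_apply]
    conv_rhs => rw [pi_eq_sum_univ' v, map_sum]
    refine Finset.sum_congr rfl fun i _ => ?_
    show v i • π (Pi.single i 1) = _
    rw [map_smul]
  haveI := epi_of_surjective p hp
  intro y _
  obtain ⟨z, rfl⟩ := surjective_of_epi (F.functor.map p) y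
  simp only [p, Functor.map_sum, Functor.map_comp]
  refine (show ∀ (s : Finset (Fin r)), (∑ i ∈ s, F.functor.map (pr i) ≫ F.functor.map (phi h (π (Pi.single i 1)))).hom z ∈
      ⨆ x : M.obj, LinearMap.range (F.functor.map (phi h x)).hom.hom from fun s => ?_) _
  induction s using Finset.induction with
  | empty => exact zero_mem _
  | insert i s hi ih =>
    rw [Finset.sum_insert hi]
    refine add_mem ?_ ih
    exact Submodule.mem_iSup_of_mem (π (Pi.single i 1)) ⟨(F.functor.map (pr i)).hom z, rfl⟩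

/-- `F` of a truncated ring is cyclic free of the same kind. -/
theorem exists_generator (n : ℕ) : ∃ g : (F.functor.obj (Q n)).obj,
    IsIso (phi (kills_obj F (kills_Q n)) g) := by
  classical
  let M₀ := F.functor.objPreimage (Q (A := A) n)
  let i₀ : F.functor.obj M₀ ≅ Q n := F.functor.objObjPreimageIso _
  have hM₀ : Kills n M₀ := kills_of_obj F fun a ha x => by
    have : (i₀.hom ≫ i₀.inv).hom (a • x) = a • x := by rw [i₀.hom_inv_id]; rfl
    rw [← this]
    show i₀.inv.hom (i₀.hom.hom (a • x)) = 0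
    rw [map_smul, kills_Q n a ha, map_zero]
  obtain ⟨x, hx⟩ : ∃ x : M₀.obj, ¬ LinearMap.range (F.functor.map (phi hM₀ x) ≫ i₀.hom).hom.hom ≤
      maximalIdeal A • (⊤ : Submodule A (Q (A := A) n).obj) := by
    by_contra hcon
    push_neg at hcon
    refine one_notMem (A := A) n ?_
    have h1 : (i₀.inv ≫ i₀.hom).hom (one n) = one n := by rw [i₀.inv_hom_id]; rfl
    rw [← h1]
    refine (iSup_le fun x => ?_ : (⨆ x : M₀.obj, LinearMap.range (F.functor.map (phi hM₀ x)).hom.hom) ≤
      (maximalIdeal A • (⊤ : Submodule A (Q (A := A) n).obj)).comap i₀.hom.hom.hom)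
      (top_le_iSup_range F hM₀ Submodule.mem_top)
    rintro _ ⟨w, rfl⟩
    exact hcon x ⟨w, rfl⟩
  let π : F.functor.obj (Q n) ⟶ Q n := F.functor.map (phi hM₀ x) ≫ i₀.hom
  obtain ⟨_, ⟨g₀, rfl⟩, hg₀⟩ := SetLike.not_le_iff_exists.1 hx
  obtain ⟨a, ha⟩ := eq_smul_one (π.hom g₀)
  have hau : IsUnit a := by
    by_contra hna
    exact hg₀ (ha ▸ Submodule.smul_mem_smul ((IsLocalRing.mem_maximalIdeal a).2 hna) Submodule.mem_top)
  obtain ⟨b, hb⟩ := hau.exists_left_inv
  let g := b • g₀
  have hg : π.hom g = one n := by rw [map_smul, ha, smul_smul, hb, one_smul]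
  let s := phi (kills_obj F (kills_Q n)) g
  have hsπ : s ≫ π = 𝟙 (Q n) := Q_ext (by
    show π.hom (s.hom (one n)) = _
    rw [phi_one]; exact hg)
  refine ⟨g, ⟨π, hsπ, ?_⟩⟩
  obtain ⟨ε, hε⟩ := F.functor.map_surjective (π ≫ s)
  have hid : ε ≫ ε = ε := F.functor.map_injective (by
    rw [Functor.map_comp, hε, Category.assoc, reassoc_of% hsπ])
  obtain ⟨c, hc⟩ := eq_smul_one (ε.hom (one n))
  have hcc : (c * (c - 1)) • one n = (0 : (Q (A := A) n).obj) := by
    have h2 : ε.hom (ε.hom (one n)) = ε.hom (one n) := congr(($hid).hom (one n))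
    rw [hc, map_smul, hc, smul_smul] at h2
    rw [mul_sub, mul_one, sub_smul, h2, sub_self]
  rcases IsLocalRing.isUnit_or_isUnit_of_isUnit_add (a := c) (b := 1 - c) (by simp) with hu | hu
  · have : ε = 𝟙 (Q n) := Q_ext (by
      show ε.hom (one n) = one n
      rw [hc, ← sub_eq_zero, ← one_smul A (one n), smul_smul, mul_one, ← sub_smul]
      rw [mul_smul, hu.smul_eq_zero] at hcc
      exact hcc)
    rw [← hε, this, CategoryTheory.Functor.map_id]
  · have h0 : ε = 0 := Q_ext (by
      show ε.hom (one n) = 0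
      rw [hc]
      have hu' : IsUnit (c - 1) := by simpa using hu.neg
      rw [mul_comm, mul_smul, hu'.smul_eq_zero] at hcc
      exact hcc)
    rw [h0, Functor.map_zero] at hε
    exfalso
    refine one_notMem (A := A) n ?_
    have h3 : s ≫ π ≫ s ≫ π = 0 := by rw [← Category.assoc π, ← hε]; simp
    rw [reassoc_of% hsπ, hsπ] at h3
    rw [show one n = (0 : (Q (A := A) n).obj) from congr(($h3).hom (one n))]
    exact zero_mem _

/-- The projection. -/
noncomputable def pr {n n' : ℕ} (h : n ≤ n') : Q (A := A) n' ⟶ Q n :=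
  phi ((kills_Q n).mono h) (one n)

theorem pr_phi {n n' : ℕ} (h : n ≤ n') {M : Dual.FinLen A} (hM : Kills n M) (x : M.obj) :
    pr h ≫ phi hM x = phi (hM.mono h) x := Q_ext (by
  show (phi hM x).hom ((pr h).hom (one n')) = _
  rw [pr, phi_one, phi_one, phi_one])

theorem exists_compatible : ∃ e : ∀ n, (F.functor.obj (Q n)).obj,
    (∀ n, IsIso (phi (kills_obj F (kills_Q n)) (e n))) ∧
    ∀ n n' (h : n ≤ n'), (F.functor.map (pr h)).hom (e n') = e n := by
  classical
  have step : ∀ n (e : (F.functor.obj (Q n)).obj), IsIso (phi (kills_obj F (kills_Q n)) e) →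
      ∃ e' : (F.functor.obj (Q (n + 1))).obj, IsIso (phi (kills_obj F (kills_Q (n + 1))) e') ∧
        (F.functor.map (pr n.le_succ)).hom e' = e := by
    intro n e he
    haveI : Epi (pr (A := A) n.le_succ) := epi_of_surjective _ fun x => by
      obtain ⟨a, rfl⟩ := eq_smul_one x
      exact ⟨a • one (n + 1), by rw [map_smul, pr, phi_one]⟩
    obtain ⟨e', he'⟩ := surjective_of_epi (F.functor.map (pr n.le_succ)) e
    refine ⟨e', ?_, he'⟩
    obtain ⟨g, hg⟩ := exists_generator F (n + 1)
    let i := asIso (phi (kills_obj F (kills_Q (n + 1))) g)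
    obtain ⟨a, ha⟩ := eq_smul_one (i.inv.hom e')
    have hae : e' = a • g := by
      have : (i.inv ≫ i.hom).hom e' = e' := by rw [i.inv_hom_id]; rfl
      rw [← this]
      show i.hom.hom (i.inv.hom e') = a • g
      rw [ha, map_smul]
      exact congrArg (a • ·) (phi_one (kills_obj F (kills_Q (n + 1))) g)
    have hau : IsUnit a := by
      by_contra hna
      refine one_notMem (A := A) n ?_
      let j := asIso (phi (kills_obj F (kills_Q n)) e)
      have h1 : j.inv.hom e = one n := by
        have : (j.hom ≫ j.inv).hom (one n) = one n := by rw [j.hom_inv_id]; rfl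
        rw [← this]
        exact congrArg j.inv.hom (phi_one (kills_obj F (kills_Q n)) e).symm
      rw [← h1, ← he', hae, map_smul, map_smul]
      exact Submodule.smul_mem_smul ((IsLocalRing.mem_maximalIdeal a).2 hna) Submodule.mem_top
    obtain ⟨b, hb⟩ := hau.exists_left_inv
    have hfac : phi (kills_obj F (kills_Q (n + 1))) e' = (a • 𝟙 _) ≫ phi (kills_obj F (kills_Q (n + 1))) g :=
      Q_ext (by
        show _ = (phi (kills_obj F (kills_Q (n + 1))) g).hom (a • one (n + 1))
        rw [map_smul, phi_one, phi_one, hae])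
    haveI : IsIso (a • 𝟙 (Q (A := A) (n + 1))) := ⟨b • 𝟙 _, by simp [smul_smul, mul_comm a b, hb], by simp [smul_smul, mul_comm a b, hb]⟩
    rw [hfac]; infer_instance
  obtain ⟨e₀, he₀⟩ := exists_generator F 0
  choose nx hnx hnx' using step
  let e : ∀ n, {x : (F.functor.obj (Q n)).obj // IsIso (phi (kills_obj F (kills_Q n)) x)} := fun n =>
    Nat.rec ⟨e₀, he₀⟩ (fun m p => ⟨nx m p.1 p.2, hnx m p.1 p.2⟩) n
  refine ⟨fun n => (e n).1, fun n => (e n).2, fun n n' h => ?_⟩
  induction n', h using Nat.le_induction with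
  | base =>
    rw [show pr (le_refl n) = 𝟙 (Q (A := A) n) from Q_ext (by rw [pr, phi_one]; rfl),
      CategoryTheory.Functor.map_id]
    rfl
  | succ m hm ih =>
    have : pr (A := A) (hm.trans m.le_succ) = pr m.le_succ ≫ pr hm := (pr_phi m.le_succ _ _).symm
    rw [show pr (A := A) (Nat.le_succ_of_le hm) = pr m.le_succ ≫ pr hm from this, Functor.map_comp]
    show (F.functor.map (pr hm)).hom ((F.functor.map (pr m.le_succ)).hom (e (m + 1)).1) = _
    rw [show (F.functor.map (pr m.le_succ)).hom (e (m + 1)).1 = (e m).1 from hnx' m (e m).1 (e m).2]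
    exact ih

theorem nonempty_iso_id : Nonempty (F.functor ≅ 𝟭 (Dual.FinLen A)) := by
  classical
  obtain ⟨e, he, hcompat⟩ := exists_compatible F
  have indep : ∀ {M : Dual.FinLen A} {n n' : ℕ} (h : Kills n M) (hn : n ≤ n') (x : M.obj),
      (F.functor.map (phi (h.mono hn) x)).hom (e n') = (F.functor.map (phi h x)).hom (e n) := by
    intro M n n' h hn x
    rw [← pr_phi hn h x, Functor.map_comp]
    show (F.functor.map (phi h x)).hom ((F.functor.map (pr hn)).hom (e n')) = _
    rw [hcompat n n' hn]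
  choose N hN using exists_kills (A := A)
  let θ : ∀ M : Dual.FinLen A, M.obj → (F.functor.obj M).obj := fun M x =>
    (F.functor.map (phi (hN M) x)).hom (e (N M))
  have hθ : ∀ (M : Dual.FinLen A) {n : ℕ} (h : Kills n M) (x : M.obj),
      θ M x = (F.functor.map (phi h x)).hom (e n) := by
    intro M n h x
    exact (indep (hN M) (le_max_right n (N M)) x).symm.trans (indep h (le_max_left n (N M)) x)
  have hadd : ∀ (M : Dual.FinLen A) (x y : M.obj), θ M (x + y) = θ M x + θ M y := fun M x y => by
    have : phi (hN M) (x + y) = phi (hN M) x + phi (hN M) y := Q_ext (by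
      show _ = (phi (hN M) x).hom (one _) + (phi (hN M) y).hom (one _)
      rw [phi_one, phi_one, phi_one])
    simp only [θ, this, Functor.map_add]
    rfl
  have hsmul : ∀ (M : Dual.FinLen A) (a : A) (x : M.obj), θ M (a • x) = a • θ M x := fun M a x => by
    have : phi (hN M) (a • x) = a • phi (hN M) x := Q_ext (by
      show _ = a • (phi (hN M) x).hom (one _)
      rw [phi_one, phi_one])
    simp only [θ, this, Functor.map_smul]
    rfl
  let η : ∀ M : Dual.FinLen A, M.obj →ₗ[A] (F.functor.obj M).obj := fun M =>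
    { toFun := θ M, map_add' := hadd M, map_smul' := hsmul M }
  have hinj : ∀ M, Function.Injective (η M) := fun M => by
    rw [injective_iff_map_eq_zero]
    intro x hx
    have h1 : F.functor.map (phi (hN M) x) = 0 := by
      rw [← cancel_epi (phi (kills_obj F (kills_Q (N M))) (e (N M)))]
      · refine Q_ext ?_
        rw [Limits.comp_zero]
        show (F.functor.map (phi (hN M) x)).hom ((phi (kills_obj F (kills_Q (N M))) (e (N M))).hom (one _)) = 0
        rw [phi_one]; exact hx
    have h2 : phi (hN M) x = 0 := F.functor.map_injective (h1.trans (Functor.map_zero _ _ _).symm)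
    rw [← phi_one (hN M) x, h2]; rfl
  have hsurj : ∀ M, Function.Surjective (η M) := fun M y => by
    refine LinearMap.mem_range.1 ((iSup_le fun x => ?_ : (⨆ x : M.obj, LinearMap.range (F.functor.map (phi (hN M) x)).hom.hom) ≤ LinearMap.range (η M))
      (top_le_iSup_range F (hN M) Submodule.mem_top))
    rintro _ ⟨w, rfl⟩
    haveI := he (N M)
    let j := asIso (phi (kills_obj F (kills_Q (N M))) (e (N M)))
    obtain ⟨a, ha⟩ := eq_smul_one (j.inv.hom w)
    have hw : w = a • e (N M) := by
      have : (j.inv ≫ j.hom).hom w = w := by rw [j.inv_hom_id]; rfl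
      rw [← this]
      show j.hom.hom (j.inv.hom w) = _
      rw [ha, map_smul]
      exact congrArg (a • ·) (phi_one (kills_obj F (kills_Q (N M))) _)
    refine ⟨a • x, ?_⟩
    rw [map_smul, hw, map_smul]
    rfl
  let iso : ∀ M : Dual.FinLen A, (𝟭 (Dual.FinLen A)).obj M ≅ F.functor.obj M := fun M =>
    ObjectProperty.isoMk _ (LinearEquiv.ofBijective (η M) ⟨hinj M, hsurj M⟩).toModuleIso
  refine ⟨(NatIso.ofComponents iso fun {M M'} f => ext' fun x => ?_).symm⟩
  show θ M' (f.hom x) = (F.functor.map f).hom (θ M x)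
  have hk := (hN M).mono (le_max_left (N M) (N M'))
  have hk' := (hN M').mono (le_max_right (N M) (N M'))
  rw [hθ M hk x, hθ M' hk' (f.hom x),
    show phi hk' (f.hom x) = phi hk x ≫ f from Q_ext (by
      show _ = f.hom ((phi hk x).hom (one _))
      rw [phi_one, phi_one]), Functor.map_comp]
  rfl

end Groth.Agent.FinLenSelf6
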